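import Mathlib.RingTheory.AlgebraicIndependent.AlgebraicClosure
import Mathlib.RingTheory.AlgebraicIndependent.TranscendenceBasis
import Mathlib.FieldTheory.IsAlgClosed.AlgebraicClosure
import Mathlib.RingTheory.MvPolynomial.Basic

/-!
# Amalgamating two field extensions of maximal transcendence degree

Given `L/k` with transcendence basis `t`, and extensions `Kᵢ` of `L` and `Mᵢ` such that the image of
`t` is a transcendence basis of `Kᵢ/Mᵢ`, there is a field `E` receiving `K₁` and `K₂` compatibly on
`L`, and a subfield `M` receiving `M₁`, `M₂`, over which `t` stays algebraically independent.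
-/

set_option autoImplicit false

universe u

namespace Groth.Agent.TrdegPair47

open Algebra

/-- If `b` is independent over `k` inside `M`, and a transcendence basis `t` of `L/k` is independent
over `M` in `F`, then `b` is independent over `L` in `F`. -/
theorem indep_over_alg {k L M F : Type u} [Field k] [Field L] [Field M] [Field F]
    [Algebra k L] [Algebra k M] [Algebra k F] [Algebra L F] [Algebra M F]
    [IsScalarTower k L F] [IsScalarTower k M F]
    {ι s : Type u} {t : ι → L} (ht : IsTranscendenceBasis k t)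
    {b : s → M} (hb : AlgebraicIndependent k b)
    (htM : AlgebraicIndependent M (algebraMap L F ∘ t)) :
    AlgebraicIndependent L (algebraMap M F ∘ b) := by
  have hsum : AlgebraicIndependent k (Sum.elim (algebraMap L F ∘ t) (algebraMap M F ∘ b)) :=
    hb.sumElim_comp htM
  have hsum' : AlgebraicIndependent k (Sum.elim (algebraMap M F ∘ b) (algebraMap L F ∘ t)) := by
    have := hsum.comp Sum.swap Sum.swap_leftInverse.injective
    convert this using 1
    funext x
    rcases x with x | x <;> rfl
  have hA := (AlgebraicIndependent.sumElim_iff.1 hsum').2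
  let A0 := adjoin k (Set.range t)
  let A2 := adjoin k (Set.range (algebraMap L F ∘ t))
  have hle : ∀ a : A0, IsScalarTower.toAlgHom k L F a ∈ A2 := by
    intro a
    have : A0.map (IsScalarTower.toAlgHom k L F) = A2 := by
      simp only [A0, A2, AlgHom.map_adjoin, ← Set.range_comp]
      rfl
    rw [← this]
    exact ⟨a, a.2, rfl⟩
  letI : Algebra A0 A2 :=
    (((IsScalarTower.toAlgHom k L F).comp A0.val).codRestrict A2 hle).toRingHom.toAlgebra
  haveI : IsScalarTower A0 A2 F := .of_algebraMap_eq fun _ => rfl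
  have h0 : AlgebraicIndependent A0 (algebraMap M F ∘ b) := by
    refine hA.restrictScalars ?_
    intro x y hxy
    apply Subtype.ext
    apply (algebraMap L F).injective
    exact congrArg Subtype.val hxy
  haveI : Algebra.IsAlgebraic A0 L := ht.isAlgebraic
  exact h0.extendScalars L

/-- Amalgamation of two extensions. -/
theorem exists_amalgam {k L M₁ M₂ K₁ K₂ : Type u}
    [Field k] [Field L] [Field M₁] [Field M₂] [Field K₁] [Field K₂]
    [Algebra k L] [Algebra k M₁] [Algebra k M₂]
    [Algebra k K₁] [Algebra L K₁] [Algebra M₁ K₁] [IsScalarTower k L K₁] [IsScalarTower k M₁ K₁]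
    [Algebra k K₂] [Algebra L K₂] [Algebra M₂ K₂] [IsScalarTower k L K₂] [IsScalarTower k M₂ K₂]
    {ι : Type u} {t : ι → L} (ht : IsTranscendenceBasis k t)
    (h₁ : IsTranscendenceBasis M₁ (algebraMap L K₁ ∘ t))
    (h₂ : IsTranscendenceBasis M₂ (algebraMap L K₂ ∘ t)) :
    ∃ (M E : Type u) (_ : Field M) (_ : Field E) (j : M →+* E) (ψ₁ : M₁ →+* M) (ψ₂ : M₂ →+* M)
      (φ₁ : K₁ →+* E) (φ₂ : K₂ →+* E),
      ψ₁.comp (algebraMap k M₁) = ψ₂.comp (algebraMap k M₂) ∧
      φ₁.comp (algebraMap M₁ K₁) = j.comp ψ₁ ∧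
      φ₂.comp (algebraMap M₂ K₂) = j.comp ψ₂ ∧
      φ₁.comp (algebraMap L K₁) = φ₂.comp (algebraMap L K₂) ∧
      (letI := j.toAlgebra
       AlgebraicIndependent M (fun i => φ₁ (algebraMap L K₁ (t i)))) := by
  obtain ⟨s, hs⟩ := exists_isTranscendenceBasis k M₂
  let P := MvPolynomial s M₁
  let M := AlgebraicClosure (FractionRing P)
  let Q := MvPolynomial ι M
  let E := AlgebraicClosure (FractionRing Q)
  haveI : IsScalarTower k M₁ M := inferInstance
  let b : s → M := fun i => algebraMap P M (MvPolynomial.X i)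
  have hPM : Function.Injective (algebraMap P M) := by
    rw [IsScalarTower.algebraMap_eq P (FractionRing P) M]
    exact (algebraMap (FractionRing P) M).injective.comp (IsFractionRing.injective P _)
  have hb1 : AlgebraicIndependent M₁ b := by
    let f : P →ₐ[M₁] M := IsScalarTower.toAlgHom M₁ P M
    exact (MvPolynomial.algebraicIndependent_X s M₁).map' (f := f) hPM
  have hb : AlgebraicIndependent k b := hb1.restrictScalars (algebraMap k M₁).injective
  let T : ι → E := fun i => algebraMap Q E (MvPolynomial.X i)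
  have hQE : Function.Injective (algebraMap Q E) := by
    rw [IsScalarTower.algebraMap_eq Q (FractionRing Q) E]
    exact (algebraMap (FractionRing Q) E).injective.comp (IsFractionRing.injective Q _)
  have hT : AlgebraicIndependent M T := by
    let f : Q →ₐ[M] E := IsScalarTower.toAlgHom M Q E
    exact (MvPolynomial.algebraicIndependent_X ι M).map' (f := f) hQE
  haveI : IsScalarTower M₁ M E := inferInstance
  have hT1 : AlgebraicIndependent M₁ T := hT.restrictScalars (algebraMap M₁ M).injective
  let R1 := adjoin M₁ (Set.range (algebraMap L K₁ ∘ t))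
  let g1 : R1 →ₐ[M₁] E := (MvPolynomial.aeval T).comp h₁.1.aevalEquiv.symm.toAlgHom
  have hg1 : Function.Injective g1 :=
    (algebraicIndependent_iff_injective_aeval.1 hT1).comp h₁.1.aevalEquiv.symm.injective
  letI : Algebra R1 E := g1.toRingHom.toAlgebra
  haveI : FaithfulSMul R1 E := (faithfulSMul_iff_algebraMap_injective R1 E).2 hg1
  haveI : Algebra.IsAlgebraic R1 K₁ := h₁.isAlgebraic
  haveI : IsScalarTower M₁ R1 E := .of_algebraMap_eq fun x => (g1.commutes x).symm
  let l1 : K₁ →ₐ[R1] E := IsAlgClosed.lift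
  let φ₁ : K₁ →ₐ[M₁] E := l1.restrictScalars M₁
  have hφt : ∀ i, φ₁ (algebraMap L K₁ (t i)) = T i := by
    intro i
    have h := l1.commutes ⟨algebraMap L K₁ (t i), subset_adjoin ⟨i, rfl⟩⟩
    refine h.trans ?_
    change MvPolynomial.aeval T (h₁.1.aevalEquiv.symm _) = _
    have : h₁.1.aevalEquiv.symm ⟨algebraMap L K₁ (t i), subset_adjoin ⟨i, rfl⟩⟩
        = MvPolynomial.X i := by
      rw [AlgEquiv.symm_apply_eq]
      apply Subtype.ext
      simp
    rw [this, MvPolynomial.aeval_X]
  letI : Algebra L E := ((φ₁ : K₁ →+* E).comp (algebraMap L K₁)).toAlgebra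
  haveI : IsScalarTower k M E := inferInstance
  haveI : IsScalarTower k L E := .of_algebraMap_eq fun c => by
    change algebraMap k E c = φ₁ (algebraMap L K₁ (algebraMap k L c))
    rw [← IsScalarTower.algebraMap_apply k L K₁, IsScalarTower.algebraMap_apply k M₁ K₁,
      AlgHom.commutes, ← IsScalarTower.algebraMap_apply k M₁ E]
  have hTL : algebraMap L E ∘ t = T := funext hφt
  have hbE : AlgebraicIndependent L (algebraMap M E ∘ b) :=
    indep_over_alg ht hb (hTL ▸ hT)
  let b2 : s → K₂ := algebraMap M₂ K₂ ∘ Subtype.val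
  have hb2 : AlgebraicIndependent L b2 := indep_over_alg ht hs.1 h₂.1
  have hsum : IsTranscendenceBasis k (Sum.elim (algebraMap L K₂ ∘ t) b2) := hs.sumElim_comp h₂
  let R2 := adjoin L (Set.range b2)
  let g2 : R2 →ₐ[L] E :=
    (MvPolynomial.aeval (algebraMap M E ∘ b)).comp hb2.aevalEquiv.symm.toAlgHom
  have hg2 : Function.Injective g2 :=
    (algebraicIndependent_iff_injective_aeval.1 hbE).comp hb2.aevalEquiv.symm.injective
  letI : Algebra R2 E := g2.toRingHom.toAlgebra
  haveI : FaithfulSMul R2 E := (faithfulSMul_iff_algebraMap_injective R2 E).2 hg2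
  haveI : IsScalarTower L R2 E := .of_algebraMap_eq fun x => (g2.commutes x).symm
  haveI : Algebra.IsAlgebraic R2 K₂ := by
    let A := adjoin k (Set.range (Sum.elim (algebraMap L K₂ ∘ t) b2))
    haveI : Algebra.IsAlgebraic A K₂ := hsum.isAlgebraic
    have hle : A ≤ R2.restrictScalars k := by
      refine adjoin_le ?_
      rintro _ ⟨(i | i), rfl⟩
      · exact R2.algebraMap_mem (t i)
      · exact subset_adjoin (s := Set.range b2) ⟨i, rfl⟩
    letI : Algebra A R2 := (Subalgebra.inclusion hle).toAlgebra
    haveI : IsScalarTower A R2 K₂ := .of_algebraMap_eq fun _ => rfl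
    exact .extendScalars (R := A) (Subalgebra.inclusion_injective hle)
  let l2 : K₂ →ₐ[R2] E := IsAlgClosed.lift
  let φ₂ : K₂ →ₐ[L] E := l2.restrictScalars L
  have hφb : ∀ i : s, φ₂ (algebraMap M₂ K₂ i) = algebraMap M E (b i) := by
    intro i
    have h := l2.commutes ⟨b2 i, subset_adjoin ⟨i, rfl⟩⟩
    refine h.trans ?_
    change MvPolynomial.aeval _ (hb2.aevalEquiv.symm _) = _
    have : hb2.aevalEquiv.symm ⟨b2 i, subset_adjoin ⟨i, rfl⟩⟩ = MvPolynomial.X i := by
      rw [AlgEquiv.symm_apply_eq]
      apply Subtype.ext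
      simp
    rw [this, MvPolynomial.aeval_X]
    rfl
  let g : M₂ →ₐ[k] E :=
    (φ₂.restrictScalars k).comp (IsScalarTower.toAlgHom k M₂ K₂)
  let A := adjoin k (Set.range (Subtype.val : s → M₂))
  let f : A →ₐ[k] M := (MvPolynomial.aeval b).comp hs.1.aevalEquiv.symm.toAlgHom
  have hf : Function.Injective f :=
    (algebraicIndependent_iff_injective_aeval.1 hb).comp hs.1.aevalEquiv.symm.injective
  have hfg : (IsScalarTower.toAlgHom k M E).comp f = g.comp A.val := by
    have h : ((IsScalarTower.toAlgHom k M E).comp f).comp hs.1.aevalEquiv.toAlgHom =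
        (g.comp A.val).comp hs.1.aevalEquiv.toAlgHom := by
      refine MvPolynomial.algHom_ext fun i => ?_
      have : hs.1.aevalEquiv.symm (hs.1.aevalEquiv (MvPolynomial.X i)) = MvPolynomial.X i :=
        AlgEquiv.symm_apply_apply _ _
      simp [f, g, hφb]
    refine AlgHom.ext fun a => ?_
    have := DFunLike.congr_fun h (hs.1.aevalEquiv.symm a)
    simpa using this
  haveI : Algebra.IsAlgebraic A M₂ := hs.isAlgebraic
  have hmem : ∀ m : M₂, g m ∈ (algebraMap M E).fieldRange := by
    intro m
    have halg : IsAlgebraic M (g m) :=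
      (Algebra.IsAlgebraic.isAlgebraic (R := A) m).ringHom_of_comp_eq (f : A →+* M) (g : M₂ →+* E)
        hf (RingHom.ext fun a => DFunLike.congr_fun hfg a)
    obtain ⟨c, hc⟩ := (IsAlgClosed.algebraMap_bijective_of_isIntegral
      (k := M) (K := algebraicClosure M E)).2 ⟨g m, mem_algebraicClosure_iff.2 halg⟩
    exact ⟨c, congrArg Subtype.val hc⟩
  let e := RingHom.rangeRestrictFieldEquiv (algebraMap M E)
  let ψ₂ : M₂ →+* M := e.symm.toRingHom.comp ((g : M₂ →+* E).codRestrict _ hmem)
  have hψ₂ : ∀ m, algebraMap M E (ψ₂ m) = g m := by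
    intro m
    have := congrArg Subtype.val (e.apply_symm_apply ⟨g m, hmem m⟩)
    exact this
  refine ⟨M, E, inferInstance, inferInstance, algebraMap M E, algebraMap M₁ M, ψ₂,
    (φ₁ : K₁ →+* E), (φ₂ : K₂ →+* E), ?_, ?_, ?_, ?_, ?_⟩
  · refine RingHom.ext fun c => (algebraMap M E).injective ?_
    simp only [RingHom.comp_apply]
    rw [hψ₂, AlgHom.commutes]
    rfl
  · exact RingHom.ext fun c => φ₁.commutes c
  · exact RingHom.ext fun c => (hψ₂ c).symm
  · exact RingHom.ext fun c => (φ₂.commutes c).symm
  · have : (algebraMap M E).toAlgebra = (inferInstance : Algebra M E) := Algebra.algebra_ext _ _ fun _ => rfl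
    rw [this]
    have h : (fun i => (φ₁ : K₁ →+* E) (algebraMap L K₁ (t i))) = T := funext hφt
    rw [h]
    exact hT

end Groth.Agent.TrdegPair47
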