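import Groth.Agent.TrdegBC.Basic
import Groth.Agent.TrdegPair47.Algebra
import Mathlib.AlgebraicGeometry.ResidueField

/-!
# Residue fields of points of base changes: generation and transcendence bases
-/

set_option autoImplicit false

universe u

open CategoryTheory Limits AlgebraicGeometry

namespace Groth.Agent.TrdegPair47

section Algebra

open scoped Cardinal

/-- If `K` is generated over `M` by the image of `L` and `trdeg_M K` is the finite number of elements of a
transcendence basis `t` of `L/k`, then the image of `t` is a transcendence basis of `K/M`. -/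
theorem isTranscendenceBasis_of_adjoin_eq_top {k L M K : Type u} [Field k] [Field L] [Field M] [Field K]
    [Algebra k L] [Algebra k M] [Algebra k K] [Algebra L K] [Algebra M K]
    [IsScalarTower k L K] [IsScalarTower k M K]
    (hgen : IntermediateField.adjoin M (Set.range (algebraMap L K)) = ⊤)
    {ι : Type u} [Finite ι] {t : ι → L} (ht : IsTranscendenceBasis k t)
    (hle : #ι ≤ Algebra.trdeg M K) : IsTranscendenceBasis M (algebraMap L K ∘ t) := by
  let f := IsScalarTower.toAlgHom k L K
  let E : IntermediateField M K := IntermediateField.adjoin M (Set.range (algebraMap L K ∘ t))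
  let k₀ : IntermediateField k L := IntermediateField.adjoin k (Set.range t)
  haveI : Algebra.IsAlgebraic k₀ L := ht.isAlgebraic_field
  have hle' : k₀.map f ≤ E.restrictScalars k := by
    rw [IntermediateField.adjoin_map, IntermediateField.adjoin_le_iff, ← Set.range_comp]
    exact IntermediateField.subset_adjoin _ _
  let g : k₀ →+* E :=
    ((algebraMap L K).comp k₀.val.toRingHom).codRestrict E fun x => hle' ⟨_, x.2, rfl⟩
  have halg : ∀ l : L, IsAlgebraic E (algebraMap L K l) := fun l =>
    (Algebra.IsAlgebraic.isAlgebraic (R := k₀) l).ringHom_of_comp_eq g (algebraMap L K) g.injective rfl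
  have hEK : Algebra.IsAlgebraic E K := by
    refine ⟨fun a => ?_⟩
    have hC : IntermediateField.adjoin M (Set.range (algebraMap L K)) ≤
        (algebraicClosure E K).restrictScalars M := by
      rw [IntermediateField.adjoin_le_iff]
      rintro _ ⟨l, rfl⟩
      exact mem_algebraicClosure_iff.2 (halg l)
    rw [hgen] at hC
    exact mem_algebraicClosure_iff.1 (hC trivial)
  haveI : Algebra.IsAlgebraic (Algebra.adjoin M (Set.range (algebraMap L K ∘ t))) K :=
    ⟨fun a => IntermediateField.isAlgebraic_adjoin_iff.1 (hEK.isAlgebraic a)⟩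
  exact Algebra.IsAlgebraic.isTranscendenceBasis_of_le_trdeg_of_finite M _ hle

end Algebra

variable {X S S' X' : Scheme.{u}}

/-- The residue field map at `x`, from the residue field of a point equal to the image of `x`. -/
noncomputable def res (f : X ⟶ S) (x : ↥X) (s : ↥S) (h : f x = s) :
    S.residueField s ⟶ X.residueField x :=
  (S.residueFieldCongr h).inv ≫ f.residueFieldMap x

theorem res_rfl (f : X ⟶ S) (x : ↥X) : res f x (f x) rfl = f.residueFieldMap x := by
  simp [res]

theorem specMap_res (f : X ⟶ S) (x : ↥X) (s : ↥S) (h : f x = s) :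
    Spec.map (res f x s h) ≫ S.fromSpecResidueField s = X.fromSpecResidueField x ≫ f := by
  subst h
  rw [res_rfl, Scheme.Hom.SpecMap_residueFieldMap_fromSpecResidueField]

/-- Equality of maps out of a residue field is tested after composing with `Spec κ(x) ⟶ X`. -/
theorem residueField_hom_ext {x : ↥X} {K : CommRingCat.{u}} {a b : X.residueField x ⟶ K}
    (h : Spec.map a ≫ X.fromSpecResidueField x = Spec.map b ≫ X.fromSpecResidueField x) : a = b :=
  Spec.map_injective ((cancel_mono (X.fromSpecResidueField x)).1 h)

theorem exists_eq_fromSpec (K : Type u) [Field K] (m : Spec (.of K) ⟶ X) :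
    ∃ (x : ↥X) (a : X.residueField x ⟶ CommRingCat.of K),
      m = Spec.map a ≫ X.fromSpecResidueField x :=
  ⟨_, _, ((Scheme.SpecToEquivOfField K X).symm_apply_apply m).symm⟩

theorem fromSpec_comp_apply {K : CommRingCat.{u}} {x : ↥X} (a : X.residueField x ⟶ K)
    (z : ↥(Spec K)) : (Spec.map a ≫ X.fromSpecResidueField x) z = x := by
  simp

/-- The residue field of a point of a fibre product is generated by the residue fields of its images. -/
theorem adjoin_eq_top_of_isPullback {f : X ⟶ S} {g : S' ⟶ S} {g' : X' ⟶ X} {f' : X' ⟶ S'}
    (hX : IsPullback g' f' f g) (x' : ↥X') (x : ↥X) (h : g' x' = x) :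
    letI := (f'.residueFieldMap x').hom.toAlgebra
    IntermediateField.adjoin (S'.residueField (f' x')) (Set.range (res g' x' x h).hom) = ⊤ := by
  letI := (f'.residueFieldMap x').hom.toAlgebra
  let C := IntermediateField.adjoin (S'.residueField (f' x')) (Set.range (res g' x' x h).hom)
  let iX : X.residueField x ⟶ CommRingCat.of C :=
    CommRingCat.ofHom ((res g' x' x h).hom.codRestrict C
      fun a => IntermediateField.subset_adjoin _ _ ⟨a, rfl⟩)
  let iS : S'.residueField (f' x') ⟶ CommRingCat.of C :=
    CommRingCat.ofHom ((f'.residueFieldMap x').hom.codRestrict C fun a => C.algebraMap_mem a)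
  let i : CommRingCat.of C ⟶ X'.residueField x' := CommRingCat.ofHom C.val.toRingHom
  have hiX : iX ≫ i = res g' x' x h := rfl
  have hiS : iS ≫ i = f'.residueFieldMap x' := rfl
  have hi : Mono i := ConcreteCategory.mono_of_injective _ Subtype.val_injective
  have hgfx : f x = g (f' x') := by
    rw [← h, ← Scheme.Hom.comp_apply, hX.w, Scheme.Hom.comp_apply]
  have hc : res f x (g (f' x')) hgfx ≫ iX = g.residueFieldMap (f' x') ≫ iS := by
    rw [← cancel_mono i, Category.assoc, Category.assoc, hiX, hiS]
    refine residueField_hom_ext ?_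
    simp only [Spec.map_comp, Category.assoc, specMap_res,
      Scheme.Hom.SpecMap_residueFieldMap_fromSpecResidueField]
    rw [← Category.assoc, specMap_res, Category.assoc, ← Category.assoc (Spec.map (f'.residueFieldMap x')),
      Scheme.Hom.SpecMap_residueFieldMap_fromSpecResidueField, Category.assoc, hX.w]
  have hw : (Spec.map iX ≫ X.fromSpecResidueField x) ≫ f =
      (Spec.map iS ≫ S'.fromSpecResidueField (f' x')) ≫ g := by
    rw [Category.assoc, Category.assoc, ← specMap_res f x _ hgfx,
      ← Scheme.Hom.SpecMap_residueFieldMap_fromSpecResidueField g (f' x'), ← Spec.map_comp_assoc,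
      ← Spec.map_comp_assoc, hc]
  obtain ⟨y, a, hy⟩ := exists_eq_fromSpec C (hX.lift _ _ hw)
  have hcomp : Spec.map i ≫ hX.lift _ _ hw = X'.fromSpecResidueField x' := by
    apply hX.hom_ext
    · rw [Category.assoc, hX.lift_fst, ← Spec.map_comp_assoc, hiX, specMap_res]
    · rw [Category.assoc, hX.lift_snd, ← Spec.map_comp_assoc, hiS,
        Scheme.Hom.SpecMap_residueFieldMap_fromSpecResidueField]
  rw [hy] at hcomp
  obtain rfl : y = x' := by
    have z : ↥(Spec (X'.residueField x')) := default
    have := congrArg (fun m : Spec (X'.residueField x') ⟶ X' => m z) hcomp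
    simpa using this
  have hai : a ≫ i = 𝟙 _ := by
    refine residueField_hom_ext ?_
    rw [Spec.map_comp, Category.assoc, hcomp, Spec.map_id, Category.id_comp]
  refine eq_top_iff.2 fun b _ => ?_
  have := congrArg (fun m : X'.residueField y ⟶ X'.residueField y => m.hom b) hai
  change (a.hom b : X'.residueField y) = b at this
  exact this ▸ (a.hom b).2

/-- The residue field maps in a commutative square commute. -/
theorem res_comm {f : X ⟶ S} {g : S' ⟶ S} {g' : X' ⟶ X} {f' : X' ⟶ S'}
    (w : g' ≫ f = f' ≫ g) (x' : ↥X') (x : ↥X) (h : g' x' = x) (s : ↥S) (hs : f x = s)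
    (hs' : g (f' x') = s) :
    res f x s hs ≫ res g' x' x h = res g (f' x') s hs' ≫ f'.residueFieldMap x' := by
  refine residueField_hom_ext ?_
  rw [Spec.map_comp, Spec.map_comp, Category.assoc, Category.assoc, specMap_res, specMap_res,
    ← Category.assoc, specMap_res, ← Category.assoc (Spec.map (f'.residueFieldMap x')),
    Scheme.Hom.SpecMap_residueFieldMap_fromSpecResidueField, Category.assoc, Category.assoc, w]

end Groth.Agent.TrdegPair47
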